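import Groth.Prelude.Def_DeltaF
import Mathlib.CategoryTheory.Abelian.Refinements
import Mathlib.CategoryTheory.Abelian.Injective.Basic
import Mathlib.CategoryTheory.Abelian.FunctorCategory
import Mathlib.CategoryTheory.Limits.FunctorCategory.EpiMono

/-!
Effaceable delta-functors: universality, comparison.
-/

set_option autoImplicit false
set_option linter.unusedSectionVars false
set_option linter.style.haveILetI false
set_option backward.isDefEq.respectTransparency false
universe v u v' u'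

namespace Groth.Agent.DeltaFun

open CategoryTheory Limits DeltaF

variable {A : Type u} [Category.{v} A] [Abelian A] {B : Type u'} [Category.{v'} B] [Abelian B]

lemma shortExact_cokernel {X Y : A} (u : X ⟶ Y) [Mono u] :
    (ShortComplex.mk u (cokernel.π u) (cokernel.condition u)).ShortExact :=
  ShortComplex.ShortExact.mk' (ShortComplex.exact_cokernel u) inferInstance inferInstance

lemma epi_δ_of_map_eq_zero (T : CohDeltaFunctor A B ℕ) (S : ShortComplex A) (hS : S.ShortExact)
    (n : ℕ) (h : (T.F (n + 1)).map S.f = 0) : Epi (T.δ S hS n (n + 1) rfl) :=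
  (T.exact₁ S hS n (n + 1) rfl).epi_f h

/-- compatibility with every connecting morphism out of degree `n` -/
def Comm (T T' : CohDeltaFunctor A B ℕ) (n : ℕ) (t : T.F n ⟶ T'.F n)
    (t' : T.F (n + 1) ⟶ T'.F (n + 1)) : Prop :=
  ∀ (S : ShortComplex A) (hS : S.ShortExact),
    T.δ S hS n (n + 1) rfl ≫ t'.app S.X₁ = t.app S.X₃ ≫ T'.δ S hS n (n + 1) rfl

lemma existsUnique_step (T T' : CohDeltaFunctor A B ℕ) (hT : T.IsEffaceable) (n : ℕ)
    (t : T.F n ⟶ T'.F n) : ∃! t', Comm T T' n t t' := by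
  choose Y u hu hu0 using fun X => hT n X
  let S : A → ShortComplex A := fun X => ShortComplex.mk (u X) (cokernel.π (u X)) (cokernel.condition _)
  have hS : ∀ X, (S X).ShortExact := fun X => haveI := hu X; shortExact_cokernel (u X)
  have hδ : ∀ X, Epi (T.δ (S X) (hS X) n (n + 1) rfl) := fun X =>
    epi_δ_of_map_eq_zero T (S X) (hS X) n (hu0 X)
  have key : ∀ X, ∃ a : (T.F (n + 1)).obj X ⟶ (T'.F (n + 1)).obj X,
      T.δ (S X) (hS X) n (n + 1) rfl ≫ a = t.app (S X).X₃ ≫ T'.δ (S X) (hS X) n (n + 1) rfl := by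
    intro X
    haveI : Epi (ShortComplex.mk _ _ (T.comp_δ (S X) (hS X) n (n + 1) rfl)).g := hδ X
    refine ⟨(T.exact₃ (S X) (hS X) n (n + 1) rfl).desc
      (t.app (S X).X₃ ≫ T'.δ (S X) (hS X) n (n + 1) rfl) ?_,
      (T.exact₃ (S X) (hS X) n (n + 1) rfl).g_desc _ _⟩
    show (T.F n).map (S X).g ≫ _ = 0
    rw [t.naturality_assoc, T'.comp_δ, comp_zero]
  choose a ha using key
  -- along a morphism of short exact sequences
  have trans : ∀ {X : A} (S' : ShortComplex A) (hS' : S'.ShortExact) (φ : S X ⟶ S')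
      (b : (T.F (n + 1)).obj S'.X₁ ⟶ (T'.F (n + 1)).obj S'.X₁),
      T.δ S' hS' n (n + 1) rfl ≫ b = t.app S'.X₃ ≫ T'.δ S' hS' n (n + 1) rfl →
        (T.F (n + 1)).map φ.τ₁ ≫ b = a X ≫ (T'.F (n + 1)).map φ.τ₁ := by
    intro X S' hS' φ b hb
    haveI := hδ X
    rw [← cancel_epi (T.δ (S X) (hS X) n (n + 1) rfl), ← Category.assoc,
      ← T.δ_natural (hS X) hS' φ n (n + 1) rfl, Category.assoc, hb, t.naturality_assoc,
      T'.δ_natural (hS X) hS' φ n (n + 1) rfl, reassoc_of% (ha X)]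
  have comm : ∀ (S' : ShortComplex A) (hS' : S'.ShortExact),
      T.δ S' hS' n (n + 1) rfl ≫ a S'.X₁ = t.app S'.X₃ ≫ T'.δ S' hS' n (n + 1) rfl := by
    intro S' hS'
    haveI := hu S'.X₁
    haveI := hS'.mono_f
    let w : S'.X₁ ⟶ pushout S'.f (u S'.X₁) := S'.f ≫ pushout.inl _ _
    haveI : Mono w := mono_comp _ _
    let S'' : ShortComplex A := ShortComplex.mk w (cokernel.π w) (cokernel.condition w)
    have hS'' : S''.ShortExact := shortExact_cokernel w
    let φ : S S'.X₁ ⟶ S'' :=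
      { τ₁ := 𝟙 _
        τ₂ := pushout.inr _ _
        τ₃ := cokernel.map (u S'.X₁) w (𝟙 _) (pushout.inr _ _) (by simp [w, pushout.condition])
        comm₁₂ := by simp [S, S'', w, pushout.condition]
        comm₂₃ := by simp [S, S''] }
    haveI := hS'.epi_g
    let ψ : S' ⟶ S'' :=
      { τ₁ := 𝟙 _
        τ₂ := pushout.inl _ _
        τ₃ := hS'.exact.desc (pushout.inl _ _ ≫ cokernel.π w)
          (by rw [← Category.assoc]; exact cokernel.condition w)
        comm₁₂ := by simp [S'', w]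
        comm₂₃ := (hS'.exact.g_desc _ _).symm }
    have h0 : (T.F (n + 1)).map S''.f = 0 := by
      have e : w = u S'.X₁ ≫ pushout.inr _ _ := pushout.condition
      show (T.F (n + 1)).map w = 0
      rw [e, Functor.map_comp, hu0, zero_comp]
    haveI : Epi (T.δ S'' hS'' n (n + 1) rfl) := epi_δ_of_map_eq_zero T S'' hS'' n h0
    haveI : Epi (ShortComplex.mk _ _ (T.comp_δ S'' hS'' n (n + 1) rfl)).g :=
      inferInstanceAs (Epi (T.δ S'' hS'' n (n + 1) rfl))
    obtain ⟨b, hb⟩ : ∃ b, T.δ S'' hS'' n (n + 1) rfl ≫ b =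
        t.app S''.X₃ ≫ T'.δ S'' hS'' n (n + 1) rfl :=
      ⟨(T.exact₃ S'' hS'' n (n + 1) rfl).desc _ (by
        show (T.F n).map S''.g ≫ _ = 0
        rw [t.naturality_assoc, T'.comp_δ, comp_zero]), (T.exact₃ S'' hS'' n (n + 1) rfl).g_desc _ _⟩
    have e : b = a S'.X₁ := by
      have := trans S'' hS'' φ b hb
      erw [CategoryTheory.Functor.map_id, CategoryTheory.Functor.map_id, Category.id_comp,
        Category.comp_id] at this
      exact this
    have h1 := T.δ_natural hS' hS'' ψ n (n + 1) rfl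
    have h2 := T'.δ_natural hS' hS'' ψ n (n + 1) rfl
    simp only [ψ, CategoryTheory.Functor.map_id, Category.comp_id] at h1 h2
    rw [← h1, ← h2, ← e, Category.assoc, hb]
    exact t.naturality_assoc _ _
  refine ⟨{ app := a, naturality := fun X X' f => ?_ }, comm, fun t' ht' => ?_⟩
  · haveI := hu X
    let w : X' ⟶ pushout f (u X) := pushout.inl _ _
    let S' : ShortComplex A := ShortComplex.mk w (cokernel.π w) (cokernel.condition w)
    have hS' : S'.ShortExact := shortExact_cokernel w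
    let φ : S X ⟶ S' :=
      { τ₁ := f
        τ₂ := pushout.inr _ _
        τ₃ := cokernel.map (u X) w f (pushout.inr _ _) pushout.condition.symm
        comm₁₂ := pushout.condition
        comm₂₃ := by simp [S, S'] }
    exact trans S' hS' φ (a X') (comm S' hS')
  · ext X
    haveI := hδ X
    exact (cancel_epi (T.δ (S X) (hS X) n (n + 1) rfl)).1 ((ht' (S X) (hS X)).trans (ha X).symm)

/-- effaceable delta-functors are universal -/
theorem isUniversal_of_isEffaceable (T : CohDeltaFunctor A B ℕ) (hT : T.IsEffaceable) :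
    T.IsUniversal := by
  intro T' t
  choose f hf hu using fun n (s : T.F n ⟶ T'.F n) => existsUnique_step T T' hT n s
  let τ : ∀ n, T.F n ⟶ T'.F n := fun n => Nat.rec t (fun n s => f n s) n
  refine ⟨{ app := τ, comm := fun S hS n₀ n₁ h => ?_ }, rfl, fun σ hσ => ?_⟩
  · subst h
    exact hf n₀ (τ n₀) S hS
  · refine CohDeltaFunctor.hom_ext fun n => ?_
    induction n with
    | zero => exact hσ
    | succ n ih =>
      refine hu n (τ n) (σ.app (n + 1)) fun S hS => ?_
      rw [show τ n = σ.app n from ih.symm]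
      exact σ.comm S hS n (n + 1) rfl

/-- uniqueness of universal delta-functors -/
theorem existsUnique_iso (T T' : CohDeltaFunctor A B ℕ) (hT : T.IsUniversal) (hT' : T'.IsUniversal)
    (e : T.F 0 ≅ T'.F 0) : ∃! φ : T ≅ T', φ.hom.app 0 = e.hom := by
  obtain ⟨a, ha, hau⟩ := hT T' e.hom
  obtain ⟨b, hb, -⟩ := hT' T e.inv
  obtain ⟨i, -, hiu⟩ := hT T (𝟙 _)
  obtain ⟨i', -, hiu'⟩ := hT' T' (𝟙 _)
  exact ⟨⟨a, b, (hiu _ (by simp [ha, hb])).trans (hiu _ (by simp)).symm,
    (hiu' _ (by simp [ha, hb])).trans (hiu' _ (by simp)).symm⟩, ha,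
    fun φ hφ => Iso.ext (hau φ.hom hφ)⟩

lemma mono_succ (T T' : CohDeltaFunctor A B ℕ) (hT : T.IsEffaceable) (φ : T ⟶ T') (i : ℕ)
    (he : Epi (φ.app i)) (hm : Mono (φ.app i)) : Mono (φ.app (i + 1)) := by
  haveI : ∀ X, Mono ((φ.app (i + 1)).app X) := fun X => by
    obtain ⟨Y, u, hu, hu0⟩ := hT i X
    let S : ShortComplex A := ShortComplex.mk u (cokernel.π u) (cokernel.condition u)
    have hS : S.ShortExact := shortExact_cokernel u
    haveI := epi_δ_of_map_eq_zero T S hS i hu0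
    refine Preadditive.mono_of_cancel_zero _ fun {Z} x hx => ?_
    obtain ⟨Z', π, hπ, z, hz⟩ := surjective_up_to_refinements_of_epi (T.δ S hS i (i + 1) rfl) x
    have h1 : (z ≫ (φ.app i).app S.X₃) ≫ T'.δ S hS i (i + 1) rfl = 0 := by
      rw [Category.assoc, ← φ.comm, ← Category.assoc, ← hz, Category.assoc, hx, comp_zero]
    obtain ⟨Z'', π', hπ', y, hy⟩ := (T'.exact₃ S hS i (i + 1) rfl).exact_up_to_refinements _ h1
    haveI : Epi ((φ.app i).app S.X₂) := (NatTrans.epi_iff_epi_app (φ.app i)).1 he _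
    haveI : Mono ((φ.app i).app S.X₃) := (NatTrans.mono_iff_mono_app (φ.app i)).1 hm _
    obtain ⟨W, π'', hπ'', y', hy'⟩ := surjective_up_to_refinements_of_epi ((φ.app i).app S.X₂) y
    have h2 : π'' ≫ π' ≫ z = y' ≫ (T.F i).map S.g := by
      rw [← cancel_mono ((φ.app i).app S.X₃)]
      have hy₁ : π' ≫ z ≫ (φ.app i).app S.X₃ = y ≫ (T'.F i).map S.g := hy
      simp only [Category.assoc, NatTrans.naturality]
      rw [hy₁, reassoc_of% hy']
    rw [← cancel_epi π, comp_zero, ← cancel_epi π', ← cancel_epi π'', hz]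
    simp only [comp_zero]
    rw [reassoc_of% h2, T.comp_δ, comp_zero]
  exact NatTrans.mono_of_mono_app _

/-- the comparison theorem -/
theorem iso_le_iff (T T' : CohDeltaFunctor A B ℕ) (hT : T.IsEffaceable) (φ : T ⟶ T') (n : ℕ) :
    ((∀ i : ℕ, i ≤ n → IsIso (φ.app i)) ∧ Mono (φ.app (n + 1)) ↔
      (Mono (φ.app 0) ∧ ∀ i : ℕ, i ≤ n → Epi (φ.app i))) ∧
    ((∀ i : ℕ, i ≤ n → IsIso (φ.app i)) ∧ Mono (φ.app (n + 1)) ↔
      (IsIso (φ.app 0) ∧ ∀ i : ℕ, 0 < i → i ≤ n → ∀ X : A,
        ∃ (Y : A) (u : X ⟶ Y), Mono u ∧ (T'.F i).map u = 0)) := by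
  have ba : Mono (φ.app 0) → (∀ i, i ≤ n → Epi (φ.app i)) →
      (∀ i : ℕ, i ≤ n → IsIso (φ.app i)) ∧ Mono (φ.app (n + 1)) := by
    intro h0 he
    have hm : ∀ i, i ≤ n + 1 → Mono (φ.app i) := by
      intro i
      induction i with
      | zero => exact fun _ => h0
      | succ i ih => exact fun hi => mono_succ T T' hT φ i (he i (by lia)) (ih (by lia))
    exact ⟨fun i hi => haveI := hm i (by lia); haveI := he i hi; isIso_of_mono_of_epi _,
      hm _ le_rfl⟩
  refine ⟨⟨fun h => ⟨haveI := h.1 0 n.zero_le; inferInstance,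
    fun i hi => haveI := h.1 i hi; inferInstance⟩, fun h => ba h.1 h.2⟩, fun h => ⟨h.1 0 n.zero_le, ?_⟩,
    fun h => ?_⟩
  · intro i hi hin X
    obtain ⟨j, rfl⟩ : ∃ j, i = j + 1 := ⟨i - 1, by lia⟩
    obtain ⟨Y, u, hu, hu0⟩ := hT j X
    haveI := h.1 (j + 1) hin
    refine ⟨Y, u, hu, ?_⟩
    rw [← cancel_epi ((φ.app (j + 1)).app X), ← NatTrans.naturality, hu0, zero_comp, comp_zero]
  · haveI := h.1
    refine ba inferInstance fun i => ?_
    induction i with
    | zero => exact fun _ => inferInstance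
    | succ i ih =>
      intro hi
      haveI := ih (by lia)
      haveI : ∀ X, Epi ((φ.app (i + 1)).app X) := fun X => by
        obtain ⟨Y, u, hu, hu0⟩ := h.2 (i + 1) (by lia) hi X
        let S : ShortComplex A := ShortComplex.mk u (cokernel.π u) (cokernel.condition u)
        have hS : S.ShortExact := shortExact_cokernel u
        haveI := epi_δ_of_map_eq_zero T' S hS i hu0
        haveI : Epi ((φ.app i).app S.X₃) := (NatTrans.epi_iff_epi_app (φ.app i)).1 (ih (by lia)) _
        have : Epi (T.δ S hS i (i + 1) rfl ≫ (φ.app (i + 1)).app S.X₁) := by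
          rw [φ.comm]; exact epi_comp _ _
        exact epi_of_epi (T.δ S hS i (i + 1) rfl) ((φ.app (i + 1)).app X)
      exact NatTrans.epi_of_epi_app _

/-- effaceable iff vanishing on injectives -/
theorem isEffaceable_iff [EnoughInjectives A] (T : CohDeltaFunctor A B ℕ) :
    T.IsEffaceable ↔ ∀ (n : ℕ) (I : A), Injective I → IsZero ((T.F (n + 1)).obj I) := by
  refine ⟨fun h n I hI => ?_, fun h n X => ⟨Injective.under X, Injective.ι X, inferInstance,
    (h n _ inferInstance).eq_of_tgt _ _⟩⟩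
  obtain ⟨Y, u, hu, hu0⟩ := h n I
  rw [IsZero.iff_id_eq_zero, ← CategoryTheory.Functor.map_id, ← Injective.comp_factorThru (𝟙 I) u,
    Functor.map_comp, hu0, zero_comp]

end Groth.Agent.DeltaFun
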