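import Mathlib.Algebra.Homology.HomologySequenceLemmas
import Groth.Prelude.Def_DeltaF
import Groth.Agent.DeltaFun.Universal
import Groth.Agent.GrothSS.Efface
import Groth.Agent.RDerLib.LES

/-! The cohomology delta-functor of an exact complex valued functor, and its comparison with derived functors. -/

set_option autoImplicit false
set_option linter.style.haveILetI false
set_option backward.isDefEq.respectTransparency false
set_option backward.isDefEq.respectTransparency.types false

universe v v' u u'

open CategoryTheory Category Limits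

noncomputable section

namespace Groth.Agent.DeltaFun

variable {A : Type u} [Category.{v} A] [Abelian A] {B : Type u'} [Category.{v'} B] [Abelian B]
  (Cx : A ⥤ CochainComplex B ℕ) [Cx.Additive]

/-- Cohomology of an exact complex valued functor as a delta-functor. -/
def homologyDelta (hex : ∀ T : ShortComplex A, T.ShortExact → (T.map Cx).ShortExact) :
    DeltaF.CohDeltaFunctor A B ℕ where
  F n := Cx ⋙ HomologicalComplex.homologyFunctor B (ComplexShape.up ℕ) n
  additive n := inferInstance
  δ S hS n₀ n₁ h := (hex S hS).δ n₀ n₁ h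
  δ_natural {S S'} hS hS' φ n₀ n₁ h :=
    (HomologicalComplex.HomologySequence.δ_naturality (Cx.mapShortComplex.map φ) (hex S hS) (hex S' hS') n₀ n₁ h).symm
  exact₂ S hS n := (hex S hS).homology_exact₂ n
  comp_δ S hS n₀ n₁ h := (hex S hS).comp_δ n₀ n₁ h
  exact₃ S hS n₀ n₁ h := (hex S hS).homology_exact₃ n₀ n₁ h
  δ_comp S hS n₀ n₁ h := (hex S hS).δ_comp n₀ n₁ h
  exact₁ S hS n₀ n₁ h := (hex S hS).homology_exact₁ n₀ n₁ h

variable [HasInjectiveResolutions A] (S : A ⥤ B) [S.Additive]

/-- Effaceable cohomology of an exact complex valued functor is the derived functor of its `H⁰`, naturally. -/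
theorem nonempty_homology_iso_rightDerived
    (hex : ∀ T : ShortComplex A, T.ShortExact → (T.map Cx).ShortExact)
    (α : S ≅ Cx ⋙ HomologicalComplex.homologyFunctor B (ComplexShape.up ℕ) 0)
    (hvan : ∀ I : A, Injective I → ∀ p : ℕ, IsZero ((Cx.obj I).homology (p + 1))) (p : ℕ) :
    Nonempty (Cx ⋙ HomologicalComplex.homologyFunctor B (ComplexShape.up ℕ) p ≅ S.rightDerived p) := by
  haveI := GrothSS.preservesFiniteLimits_of_complex Cx S α hex
  let T := homologyDelta Cx hex
  have hT : T.IsEffaceable := fun n X => by
    let I := injectiveResolution X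
    haveI := I.injective 0
    exact ⟨_, RDerLib.ι₀ I, inferInstance, (hvan _ inferInstance n).eq_of_tgt _ _⟩
  let T' := (RDerLib.derivedLES S).toCohDeltaFunctor
  have hT' : T'.IsEffaceable := RDerLib.isEffaceable S _
  obtain ⟨φ, -, -⟩ := existsUnique_iso T T' (isUniversal_of_isEffaceable T hT) (isUniversal_of_isEffaceable T' hT')
    (α.symm ≪≫ S.rightDerivedZeroIsoSelf.symm)
  exact ⟨{ hom := φ.hom.app p
           inv := φ.inv.app p
           hom_inv_id := congrArg (fun e => e.app p) φ.hom_inv_id
           inv_hom_id := congrArg (fun e => e.app p) φ.inv_hom_id }⟩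

end Groth.Agent.DeltaFun
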